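import Groth.Agent.QReg16Lib.Converse
import Groth.Agent.CILib.KoszulDescent
import Groth.Agent.S3826
import Groth.Agent.S0276
import Mathlib

/-!
# Quasi-regular ideals descend along faithfully flat maps
-/

set_option autoImplicit false
set_option linter.style.haveILetI false
set_option backward.isDefEq.respectTransparency false
universe u
open MvPolynomial Groth.Agent.SymGrLib
open scoped TensorProduct

noncomputable section

namespace Groth.Agent.QRegDescLib

open Groth.Agent.QReg16Lib

/-- Near a prime containing `J`, generators of `J` giving coordinates on `J/J²`. -/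
theorem exists_coord_generators {R : Type u} [CommRing R] {J : Ideal R} (hfg : J.FG)
    [Module.Projective (R ⧸ J) J.Cotangent] (P : Ideal R) [P.IsPrime] (hJP : J ≤ P) :
    ∃ g : R, g ∉ P ∧ ∃ (c : ℕ) (x : Fin c → J),
      (∃ τ : J.Cotangent →ₗ[R ⧸ J] (Fin c → Localization.Away (Ideal.Quotient.mk J g)),
        ∀ j, τ (J.toCotangent (x j)) = Pi.single j 1) ∧
      Ideal.span (Set.range fun j => algebraMap R (Localization.Away g) (x j)) =
        J.map (algebraMap R (Localization.Away g)) := by
  classical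
  let B := R ⧸ J
  haveI : Module.Finite R J := Module.Finite.of_fg hfg
  haveI : Module.Finite R J.Cotangent := Module.Finite.of_surjective _ J.toCotangent_surjective
  haveI : Module.Finite B J.Cotangent := Module.Finite.of_restrictScalars_finite R B _
  haveI : Module.FinitePresentation B J.Cotangent := Module.finitePresentation_of_projective B _
  let p : Ideal B := P.map (Ideal.Quotient.mk J)
  haveI : p.IsPrime := Ideal.map_isPrime_of_surjective Ideal.Quotient.mk_surjective (by rwa [Ideal.mk_ker])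
  have hcomap : ∀ r : R, Ideal.Quotient.mk J r ∈ p ↔ r ∈ P := fun r => by
    rw [← Ideal.mem_comap, Ideal.comap_map_of_surjective' _ Ideal.Quotient.mk_surjective, Ideal.mk_ker,
      sup_eq_left.2 hJP]
  haveI : Module.Free (Localization.AtPrime p) (LocalizedModule p.primeCompl J.Cotangent) :=
    Module.free_of_flat_of_isLocalRing
  obtain ⟨a, ha, hfree, -⟩ := Module.FinitePresentation.exists_free_localizedModule_powers
    p.primeCompl (LocalizedModule.mkLinearMap p.primeCompl J.Cotangent) (Localization.AtPrime p)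
  obtain ⟨g, rfl⟩ := Ideal.Quotient.mk_surjective a
  have hgP : g ∉ P := fun h => ha ((hcomap g).2 h)
  let ga := Ideal.Quotient.mk J g
  let Ba := Localization.Away ga
  let mkC := LocalizedModule.mkLinearMap (Submonoid.powers ga) J.Cotangent
  haveI : Module.Free Ba (LocalizedModule.Away ga J.Cotangent) := hfree
  let b₀ := Module.Free.chooseBasis Ba (LocalizedModule.Away ga J.Cotangent)
  obtain ⟨c, b, -⟩ : ∃ (c : ℕ) (_ : Module.Basis (Fin c) Ba (LocalizedModule.Away ga J.Cotangent)), True :=
    ⟨_, b₀.reindex (Fintype.equivFin _), trivial⟩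
  have hsurj : ∀ j, ∃ (x : J) (u : Baˣ), mkC (J.toCotangent x) = u • b j := fun j => by
    obtain ⟨⟨y, s⟩, hy⟩ := IsLocalizedModule.surj (Submonoid.powers ga) mkC (b j)
    obtain ⟨x, rfl⟩ := J.toCotangent_surjective y
    obtain ⟨u, hu⟩ : IsUnit (algebraMap B Ba s) := IsLocalization.map_units _ s
    exact ⟨x, u, by rw [Units.smul_def, hu, algebraMap_smul]; exact hy.symm⟩
  choose x u hxu using hsurj
  let b' := b.unitsSMul u
  have hb' : ∀ j, b' j = mkC (J.toCotangent (x j)) := fun j => by rw [Module.Basis.unitsSMul_apply, hxu]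
  let τ₀ : J.Cotangent →ₗ[B] (Fin c → Ba) := (b'.equivFun.toLinearMap.restrictScalars B) ∘ₗ mkC
  have hτ₀ : ∀ j, τ₀ (J.toCotangent (x j)) = Pi.single j 1 := fun j => by
    show b'.equivFun (mkC _) = _
    rw [← hb']
    ext i
    rw [Module.Basis.equivFun_self]
    rw [Pi.single_apply]
    by_cases hij : j = i
    · subst hij; simp
    · rw [if_neg hij, if_neg (fun h => hij h.symm)]
  -- in `R_g`, the `x j` generate `J` up to `J²`
  let L := Localization.Away g
  let N : Ideal L := Ideal.span (Set.range fun j => algebraMap R L (x j))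
  let JL := J.map (algebraMap R L)
  have hle : JL ≤ N ⊔ JL • JL := by
    refine Ideal.map_le_iff_le_comap.2 fun y hy => ?_
    obtain ⟨r, hr⟩ := (Submodule.mem_span_range_iff_exists_fun Ba).1
      (show mkC (J.toCotangent ⟨y, hy⟩) ∈ Submodule.span Ba (Set.range b') by rw [b'.span_eq]; trivial)
    obtain ⟨⟨_, k, rfl⟩, hk⟩ := IsLocalization.exist_integer_multiples_of_finite (Submonoid.powers ga) r
    choose q hq using hk
    choose q' hq' using fun j => Ideal.Quotient.mk_surjective (q j)
    have hdiff : mkC ((ga ^ k) • J.toCotangent ⟨y, hy⟩ - J.toCotangent (∑ j, q' j • x j)) = 0 := by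
      rw [map_sub, map_smul, ← hr, map_sum, map_sum, Finset.smul_sum, sub_eq_zero]
      refine Finset.sum_congr rfl fun j _ => ?_
      rw [map_smul, ← algebraMap_smul B (q' j), Ideal.Quotient.algebraMap_eq, hq', map_smul, ← hb',
        ← algebraMap_smul Ba (q j), hq j, smul_assoc]
    obtain ⟨⟨_, l, rfl⟩, hl⟩ := (IsLocalizedModule.eq_zero_iff (Submonoid.powers ga) mkC).1 hdiff
    simp only [Submonoid.smul_def, ga, ← map_pow] at hl
    rw [← Ideal.Quotient.algebraMap_eq, algebraMap_smul, algebraMap_smul, ← map_smul, ← map_sub, ← map_smul,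
      Ideal.toCotangent_eq_zero] at hl
    have h2 := Ideal.mem_map_of_mem (algebraMap R L) hl
    rw [Ideal.map_pow, pow_two] at h2
    rw [Ideal.mem_comap, ← Ideal.unit_mul_mem_iff_mem _ (((isUnit_g (g := g)).pow l).mul ((isUnit_g (g := g)).pow k))]
    simp only [Submodule.coe_smul, Submodule.coe_sub, Submodule.coe_sum, smul_eq_mul, map_mul, map_sub, map_sum,
      map_pow, mul_sub, ← mul_assoc] at h2
    rw [← sub_add_cancel (algebraMap R L g ^ l * algebraMap R L g ^ k * algebraMap R L y)
      (algebraMap R L g ^ l * ∑ j, algebraMap R L (q' j) * algebraMap R L (x j))]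
    exact add_mem (le_sup_right (a := N) h2) (le_sup_left (b := JL • JL) (N.mul_mem_left _
      (Submodule.sum_mem _ fun j _ => N.mul_mem_left _ (Ideal.subset_span ⟨j, rfl⟩))))
  obtain ⟨r, hr1, hr2⟩ := Submodule.exists_sub_one_mem_and_smul_le_of_fg_of_le_sup (N' := JL) (hfg.map _) le_rfl hle
  obtain ⟨⟨h, ⟨_, k, rfl⟩⟩, hh⟩ := IsLocalization.surj (Submonoid.powers g) r
  have hhP : h ∉ P := fun hhP => by
    have : algebraMap R L (h - g ^ k) ∈ JL := by
      rw [map_sub, ← hh, ← sub_one_mul]; exact JL.mul_mem_right _ hr1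
    obtain ⟨m, hm⟩ := exists_pow_mul_mem (g := g) this
    rw [mul_sub] at hm
    exact hgP (Ideal.IsPrime.mem_of_pow_mem (n := m + k) inferInstance (by
      rw [pow_add]; exact (Submodule.sub_mem_iff_right P (P.mul_mem_left _ hhP)).1 (hJP hm)))
  refine ⟨g * h, Ideal.IsPrime.mul_notMem inferInstance hgP hhP, c, x, ?_⟩
  let L' := Localization.Away (g * h)
  obtain ⟨hgu, hhu⟩ : IsUnit (algebraMap R L' g) ∧ IsUnit (algebraMap R L' h) :=
    IsUnit.mul_iff.1 (by rw [← map_mul]; exact IsLocalization.Away.algebraMap_isUnit _)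
  have hspan : Ideal.span (Set.range fun j => algebraMap R L' (x j)) = J.map (algebraMap R L') := by
    refine le_antisymm (Ideal.span_le.2 ?_) (Ideal.map_le_iff_le_comap.2 fun y hy => ?_)
    · rintro _ ⟨j, rfl⟩; exact Ideal.mem_map_of_mem _ (x j).2
    have hy' : algebraMap R L h * algebraMap R L y ∈ N := by
      have hr3 : r * algebraMap R L y ∈ N :=
        hr2 (Submodule.smul_mem_pointwise_smul _ r _ (Ideal.mem_map_of_mem _ hy))
      rw [← hh, mul_right_comm]
      exact N.mul_mem_right _ hr3
    let ψ : L →+* L' := IsLocalization.Away.lift g hgu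
    have h3 := Ideal.mem_map_of_mem ψ hy'
    rw [Ideal.map_span, ← Set.range_comp, map_mul, IsLocalization.Away.lift_eq, IsLocalization.Away.lift_eq] at h3
    simp only [Function.comp_def, IsLocalization.Away.lift_eq, ψ] at h3
    rw [Ideal.mem_comap]
    exact (Ideal.unit_mul_mem_iff_mem _ hhu).1 h3
  let Ba' := Localization.Away (Ideal.Quotient.mk J (g * h))
  have hau : IsUnit (algebraMap B Ba' ga) := by
    have h1 : IsUnit (algebraMap B Ba' (Ideal.Quotient.mk J (g * h))) :=
      IsLocalization.Away.algebraMap_isUnit (Ideal.Quotient.mk J (g * h))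
    have h2 : algebraMap B Ba' (Ideal.Quotient.mk J (g * h)) = algebraMap B Ba' ga * algebraMap B Ba' (Ideal.Quotient.mk J h) :=
      (congrArg (algebraMap B Ba') (map_mul (Ideal.Quotient.mk J) g h)).trans (map_mul _ _ _)
    exact (IsUnit.mul_iff.1 (h2 ▸ h1)).1
  let χ : Ba →ₐ[B] Ba' := IsLocalization.liftAlgHom (M := Submonoid.powers ga) (f := Algebra.ofId B Ba')
    (by rintro ⟨_, m, rfl⟩; exact (map_pow (algebraMap B Ba') ga m).symm ▸ hau.pow m)
  refine ⟨⟨χ.toLinearMap.compLeft (Fin c) ∘ₗ τ₀, fun j => ?_⟩, hspan⟩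
  ext i
  show χ (τ₀ (J.toCotangent (x j)) i) = _
  rw [hτ₀, Pi.single_apply, Pi.single_apply]
  split_ifs <;> simp

variable {A B : Type u} [CommRing A] [CommRing B] [Algebra A B] (I : Ideal A)

local notation "IB" => Ideal.map (algebraMap A B) I

theorem faithfullyFlat_quot [Module.FaithfullyFlat A B] : Module.FaithfullyFlat (A ⧸ I) (B ⧸ IB) := by
  let e₀ : (A ⧸ I) ⊗[A] B ≃ₐ[A] B ⧸ IB := (Algebra.TensorProduct.comm A (A ⧸ I) B).trans
    ((Algebra.TensorProduct.quotIdealMapEquivTensorQuot B I).symm.restrictScalars A)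
  refine Module.FaithfullyFlat.of_linearEquiv (A ⧸ I) ((A ⧸ I) ⊗[A] B)
    { e₀.symm.toLinearEquiv with map_smul' := fun r x => ?_ }
  obtain ⟨r, rfl⟩ := Ideal.Quotient.mk_surjective r
  rw [← Ideal.Quotient.algebraMap_eq]
  simp only [RingHom.id_apply, algebraMap_smul]
  exact map_smul e₀.symm.toLinearEquiv r x

instance moduleQuot : Module (A ⧸ I) (IB).Cotangent := Module.compHom _ (algebraMap (A ⧸ I) (B ⧸ IB))

instance isScalarTower_quot : IsScalarTower (A ⧸ I) (B ⧸ IB) (IB).Cotangent :=
  IsScalarTower.of_algebraMap_smul fun _ _ => rfl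

instance isScalarTower_quot' : IsScalarTower A (A ⧸ I) (IB).Cotangent :=
  IsScalarTower.of_algebraMap_smul fun r x => by
    show algebraMap (A ⧸ I) (B ⧸ IB) (algebraMap A (A ⧸ I) r) • x = r • x
    rw [Ideal.Quotient.algebraMap_eq, Ideal.Quotient.algebraMap_quotient_map_quotient,
      ← Ideal.Quotient.algebraMap_eq, algebraMap_smul, algebraMap_smul]

/-- The comparison of conormal modules. -/
def cotMap : I.Cotangent →ₗ[A] (IB).Cotangent :=
  Ideal.mapCotangent I IB (Algebra.ofId A B) Ideal.le_comap_map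

theorem cotMap_toCotangent (x : I) :
    cotMap (B := B) I (I.toCotangent x) = (IB).toCotangent ⟨algebraMap A B x, Ideal.mem_map_of_mem _ x.2⟩ := rfl

/-- The comparison of conormal modules, over the quotient rings. -/
def cotMapQ : I.Cotangent →ₗ[A ⧸ I] (IB).Cotangent where
  toFun := cotMap I
  map_add' := map_add _
  map_smul' r x := by
    obtain ⟨r, rfl⟩ := Ideal.Quotient.mk_surjective r
    rw [← Ideal.Quotient.algebraMap_eq]
    simp only [RingHom.id_apply, algebraMap_smul]
    exact map_smul (cotMap I) r x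

theorem cotMapQ_apply (x : I.Cotangent) : cotMapQ (B := B) I x = cotMap I x := rfl

theorem surjective_liftBaseChange_cotMapQ :
    Function.Surjective ((cotMapQ (B := B) I).liftBaseChange (B ⧸ IB)) := by
  intro y
  obtain ⟨⟨y, hy⟩, rfl⟩ := (IB).toCotangent_surjective y
  refine Submodule.span_induction
    (p := fun y hy => ∃ z, (cotMapQ (B := B) I).liftBaseChange (B ⧸ IB) z = (IB).toCotangent ⟨y, hy⟩)
    ?_ ?_ ?_ ?_ hy
  · rintro _ ⟨a, ha, rfl⟩
    exact ⟨1 ⊗ₜ I.toCotangent ⟨a, ha⟩, by rw [LinearMap.liftBaseChange_tmul, one_smul]; rfl⟩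
  · exact ⟨0, (map_zero _).trans (map_zero _).symm⟩
  · rintro a b ha hb ⟨z, hz⟩ ⟨w, hw⟩
    exact ⟨z + w, by rw [map_add, hz, hw, ← map_add]; rfl⟩
  · rintro r a ha ⟨z, hz⟩
    exact ⟨Ideal.Quotient.mk IB r • z, by
      rw [map_smul, hz, ← Ideal.Quotient.algebraMap_eq, algebraMap_smul, ← map_smul]; rfl⟩

theorem injective_liftBaseChange_cotMap [Module.Flat A B] :
    Function.Injective ((cotMap (B := B) I).liftBaseChange B) := by
  have hmap : (I ^ 2).map (algebraMap A B) = (IB) ^ 2 := Ideal.map_pow _ _ _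
  let E : B ⊗[A] (A ⧸ (I ^ (2 : ℕ) : Ideal A)) ≃ₐ[B] B ⧸ ((IB) ^ (2 : ℕ) : Ideal B) :=
    (Algebra.TensorProduct.quotIdealMapEquivTensorQuot B (I ^ (2 : ℕ) : Ideal A)).symm.trans (Ideal.quotientEquivAlgOfEq B hmap)
  have hinj : Function.Injective fun w => E (LinearMap.lTensor B I.cotangentToQuotientSquare w) :=
    E.injective.comp (Module.Flat.lTensor_preserves_injective_linearMap (M := B) I.cotangentToQuotientSquare
      I.cotangentToQuotientSquare_injective)
  refine fun z w h => hinj ?_
  have key : ∀ z, E (LinearMap.lTensor B I.cotangentToQuotientSquare z) =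
      (IB).cotangentToQuotientSquare ((cotMap (B := B) I).liftBaseChange B z) := by
    intro z
    induction z with
    | zero => simp
    | add p q hp hq => simp only [map_add, hp, hq]
    | tmul b x =>
      obtain ⟨x, rfl⟩ := I.toCotangent_surjective x
      rw [LinearMap.liftBaseChange_tmul, map_smul, cotMap_toCotangent, Ideal.toCotangent_to_quotient_square,
        LinearMap.lTensor_tmul, Ideal.toCotangent_to_quotient_square]
      simp [E, Algebra.smul_def, mul_comm, ← Ideal.Quotient.mk_algebraMap]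
  exact (key z).trans ((congrArg _ h).trans (key w).symm)

theorem injective_liftBaseChange_cotMapQ [Module.Flat A B] :
    Function.Injective ((cotMapQ (B := B) I).liftBaseChange (B ⧸ IB)) := by
  refine (injective_iff_map_eq_zero _).2 fun z hz => ?_
  obtain ⟨w, hw, hw'⟩ : ∃ w : B ⊗[A] I.Cotangent, ((cotMap (B := B) I).liftBaseChange B w =
      (cotMapQ (B := B) I).liftBaseChange (B ⧸ IB) z) ∧ (w = 0 → z = 0) := by
    let π : B ⊗[A] I.Cotangent →ₗ[A] (B ⧸ IB) ⊗[A ⧸ I] I.Cotangent :=
      TensorProduct.lift (LinearMap.mk₂ A (fun b x => Ideal.Quotient.mk IB b ⊗ₜ[A ⧸ I] x)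
        (fun _ _ _ => by rw [map_add, TensorProduct.add_tmul])
        (fun r b x => by
          rw [← algebraMap_smul (A ⧸ I) r ((Ideal.Quotient.mk IB b) ⊗ₜ[A ⧸ I] x), TensorProduct.smul_tmul']
          rw [algebraMap_smul]
          rfl)
        (fun _ _ _ => TensorProduct.tmul_add _ _ _)
        (fun r b x => by
          rw [← algebraMap_smul (A ⧸ I) r x, TensorProduct.tmul_smul, algebraMap_smul]))
    suffices ∃ w, π w = z ∧ (cotMap (B := B) I).liftBaseChange B w =
        (cotMapQ (B := B) I).liftBaseChange (B ⧸ IB) z from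
      let ⟨w, h1, h2⟩ := this
      ⟨w, h2, fun h => by rw [← h1, h, map_zero]⟩
    clear hz
    induction z with
    | zero => exact ⟨0, map_zero _, (map_zero _).trans (map_zero _).symm⟩
    | add p q hp hq =>
      obtain ⟨a, ha, ha'⟩ := hp
      obtain ⟨b, hb, hb'⟩ := hq
      exact ⟨a + b, by rw [map_add, ha, hb], by rw [map_add, map_add, ha', hb']⟩
    | tmul b x =>
      obtain ⟨b, rfl⟩ := Ideal.Quotient.mk_surjective b
      refine ⟨b ⊗ₜ x, rfl, ?_⟩
      rw [LinearMap.liftBaseChange_tmul, LinearMap.liftBaseChange_tmul, ← Ideal.Quotient.algebraMap_eq,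
        algebraMap_smul]
      rfl
  exact hw' (injective_liftBaseChange_cotMap I ((hw.trans hz).trans (map_zero _).symm))

/-- The conormal module commutes with flat base change. -/
def cotEquiv [Module.Flat A B] : (B ⧸ IB) ⊗[A ⧸ I] I.Cotangent ≃ₗ[B ⧸ IB] (IB).Cotangent :=
  LinearEquiv.ofBijective _ ⟨injective_liftBaseChange_cotMapQ I, surjective_liftBaseChange_cotMapQ I⟩

variable [Module.FaithfullyFlat A B]

theorem projective_cotangent (hfg : (IB).FG) [Module.Projective (B ⧸ IB) (IB).Cotangent] :
    Module.Projective (A ⧸ I) I.Cotangent := by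
  haveI := faithfullyFlat_quot (B := B) I
  haveI : Module.Finite B (IB) := Module.Finite.of_fg hfg
  haveI : Module.Finite B (IB).Cotangent := Module.Finite.of_surjective _ (IB).toCotangent_surjective
  haveI : Module.Finite (B ⧸ IB) (IB).Cotangent := Module.Finite.of_restrictScalars_finite B _ _
  haveI : Module.FinitePresentation (B ⧸ IB) (IB).Cotangent := Module.finitePresentation_of_projective _ _
  haveI : Module.FinitePresentation (B ⧸ IB) ((B ⧸ IB) ⊗[A ⧸ I] I.Cotangent) :=
    Module.FinitePresentation.of_equiv (cotEquiv I).symm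
  haveI : Module.Flat (B ⧸ IB) ((B ⧸ IB) ⊗[A ⧸ I] I.Cotangent) := Module.Flat.of_linearEquiv (cotEquiv I)
  haveI := Module.Flat.of_flat_tensorProduct (R := A ⧸ I) (M := I.Cotangent) (B ⧸ IB)
  haveI : Module.FinitePresentation (A ⧸ I) I.Cotangent := by
    refine S0276.result (A ⧸ I) (B ⧸ IB) (fun P _ _ => ?_) I.Cotangent
    have : LinearMap.lTensor P (Algebra.linearMap (A ⧸ I) (B ⧸ IB)) =
        (TensorProduct.comm (A ⧸ I) (B ⧸ IB) P).toLinearMap ∘ₗ
          TensorProduct.mk (A ⧸ I) (B ⧸ IB) P 1 ∘ₗ (TensorProduct.rid (A ⧸ I) P).toLinearMap := by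
      refine TensorProduct.ext' fun p a => ?_
      simp [Algebra.algebraMap_eq_smul_one, TensorProduct.tmul_smul]
    rw [this]
    exact (TensorProduct.comm _ _ _).injective.comp
      ((Module.FaithfullyFlat.tensorProduct_mk_injective P).comp (TensorProduct.rid _ _).injective)
  exact Module.Flat.projective_of_finitePresentation

theorem isLocallyQuasiRegular (h : PP16.IsLocallyQuasiRegular B IB) : PP16.IsLocallyQuasiRegular A I := by
  obtain ⟨hfgB, hprojB, hS⟩ := (S3826.result B IB).1 h
  haveI := projective_cotangent I hfgB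
  intro P _ hIP
  obtain ⟨g, hgP, c, x, ⟨τ, hτ⟩, hspan⟩ := exists_coord_generators (CILib.fg_of_map_fg hfgB) P hIP
  refine ⟨g, hgP, c, fun j => algebraMap A (Localization.Away g) (x j), ?_, hspan⟩
  let gb := algebraMap A B g
  let ga := Ideal.Quotient.mk I g
  let gbb := Ideal.Quotient.mk IB gb
  let χ : Localization.Away ga →ₐ[A ⧸ I] Localization.Away gbb :=
    IsLocalization.liftAlgHom (M := Submonoid.powers ga) (f := Algebra.ofId (A ⧸ I) (Localization.Away gbb))
      (by
        rintro ⟨_, m, rfl⟩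
        exact (map_pow (algebraMap (A ⧸ I) (Localization.Away gbb)) ga m).symm ▸
          (IsLocalization.Away.algebraMap_isUnit (S := Localization.Away gbb) gbb).pow m)
  let τ' : (IB).Cotangent →ₗ[B ⧸ IB] (Fin c → Localization.Away gbb) :=
    (LinearMap.liftBaseChange (B ⧸ IB) (χ.toLinearMap.compLeft (Fin c) ∘ₗ τ)) ∘ₗ (cotEquiv I).symm.toLinearMap
  let x' : Fin c → (IB : Ideal B) := fun j => ⟨algebraMap A B (x j), Ideal.mem_map_of_mem _ (x j).2⟩
  have hτ' : ∀ j, τ' ((IB).toCotangent (x' j)) = Pi.single j 1 := fun j => by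
    have : (cotEquiv (B := B) I).symm ((IB).toCotangent (x' j)) = 1 ⊗ₜ I.toCotangent (x j) := by
      rw [LinearEquiv.symm_apply_eq]
      simp [cotEquiv, cotMapQ_apply, cotMap_toCotangent, x']
    simp only [τ', LinearMap.comp_apply, LinearEquiv.coe_coe, this, LinearMap.liftBaseChange_tmul, one_smul, hτ]
    ext i
    show χ (τ (I.toCotangent (x j)) i) = _
    rw [hτ, Pi.single_apply, Pi.single_apply]
    split_ifs <;> simp
  let ψ : Localization.Away g →+* Localization.Away gb :=
    IsLocalization.Away.lift (S := Localization.Away g) g (g := (algebraMap B (Localization.Away gb)).comp (algebraMap A B))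
      (IsLocalization.Away.algebraMap_isUnit gb)
  have hψ : ψ.comp (algebraMap A (Localization.Away g)) =
      (algebraMap B (Localization.Away gb)).comp (algebraMap A B) := IsLocalization.Away.lift_comp _ _
  have hspanB : Ideal.span (Set.range fun j => algebraMap B (Localization.Away gb) (x' j)) =
      (IB).map (algebraMap B (Localization.Away gb)) := by
    have := congrArg (Ideal.map ψ) hspan
    rw [Ideal.map_map, hψ, ← Ideal.map_map, Ideal.map_span, ← Set.range_comp] at this
    rw [← this]
    exact congrArg (fun f => Ideal.span (Set.range f)) (funext fun j => (RingHom.congr_fun hψ (x j).1).symm)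
  have hQ := isQuasiRegular_of_coord gb x' τ' hτ' hS hspanB
  intro n p hp hev d
  have hev' : eval (fun j => algebraMap B (Localization.Away gb) (x' j)) (map ψ p) ∈
      Ideal.span (Set.range fun j => algebraMap B (Localization.Away gb) (x' j)) ^ (n + 1) := by
    have h1 := Ideal.mem_map_of_mem ψ hev
    rw [Ideal.map_pow, Ideal.map_span, ← Set.range_comp, MvPolynomial.eval, MvPolynomial.coe_eval₂Hom,
      MvPolynomial.eval₂_comp_left] at h1
    have hx : (ψ ∘ fun j => algebraMap A (Localization.Away g) (x j)) =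
        fun j => algebraMap B (Localization.Away gb) (x' j) := funext fun j => RingHom.congr_fun hψ (x j).1
    rw [hx, RingHom.comp_id] at h1
    rwa [eval_map]
  have hd := hQ n (map ψ p) (hp.map ψ) hev' d
  rw [coeff_map, hspanB] at hd
  rw [hspan]
  obtain ⟨a, m, hm⟩ : ∃ (a : A) (m : ℕ), p.coeff d * algebraMap A (Localization.Away g) g ^ m = algebraMap A _ a := by
    obtain ⟨⟨a, ⟨_, m, rfl⟩⟩, hm⟩ := IsLocalization.surj (Submonoid.powers g) (p.coeff d)
    exact ⟨a, m, by rw [← map_pow]; exact hm⟩
  have h2 : algebraMap B (Localization.Away gb) (algebraMap A B a) ∈ (IB).map (algebraMap B (Localization.Away gb)) := by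
    rw [← RingHom.comp_apply, ← hψ, RingHom.comp_apply, ← hm, map_mul]
    exact Ideal.mul_mem_right _ _ hd
  obtain ⟨l, hl⟩ := exists_pow_mul_mem (g := gb) h2
  rw [← map_pow, ← map_mul, ← Ideal.mem_comap, Ideal.comap_map_eq_self_of_faithfullyFlat] at hl
  have h3 := Ideal.mem_map_of_mem (algebraMap A (Localization.Away g)) hl
  rw [map_mul, map_pow, ← hm, Ideal.unit_mul_mem_iff_mem _ ((isUnit_g (g := g)).pow l),
    Ideal.mul_unit_mem_iff_mem _ ((isUnit_g (g := g)).pow m)] at h3
  exact h3

end Groth.Agent.QRegDescLib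

end
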